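import Mathlib.CategoryTheory.Adjunction.Basic
import Mathlib.CategoryTheory.Equivalence

/-!
# Pointwise right adjoints in terms of universal arrows, independently of universes

`PW F Y`: there is a universal arrow from `F` to `Y` (i.e. `Hom(F -, Y)` is "representable").
-/

set_option autoImplicit false

universe v₁ v₂ v₃ u₁ u₂ u₃

open CategoryTheory

namespace Groth.Agent.Etdl.H430.UnivArrow

variable {C : Type u₁} [Category.{v₁} C] {D : Type u₂} [Category.{v₂} D] {E : Type u₃} [Category.{v₃} E]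

/-- There is a universal arrow from `F` to `Y`. -/
def PW (F : C ⥤ D) (Y : D) : Prop :=
  ∃ (Y' : C) (ε : F.obj Y' ⟶ Y), ∀ (X : C), Function.Bijective (fun g : X ⟶ Y' => F.map g ≫ ε)

/-- With control on the representing object. -/
def PWIn (F : C ⥤ D) (Y : D) (P : C → Prop) : Prop :=
  ∃ (Y' : C) (_ : P Y') (ε : F.obj Y' ⟶ Y), ∀ (X : C), Function.Bijective (fun g : X ⟶ Y' => F.map g ≫ ε)

theorem PWIn.pw {F : C ⥤ D} {Y : D} {P : C → Prop} (h : PWIn F Y P) : PW F Y := by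
  obtain ⟨Y', -, ε, hε⟩ := h
  exact ⟨Y', ε, hε⟩

theorem isLeftAdjoint_of_pw (F : C ⥤ D) (h : ∀ Y, PW F Y) : F.IsLeftAdjoint := by
  choose R ε hε using h
  let e : ∀ (X : C) (Y : D), (F.obj X ⟶ Y) ≃ (X ⟶ R Y) := fun X Y =>
    (Equiv.ofBijective _ (hε Y X)).symm
  have he : ∀ (X' X : C) (Y : D) (f : X' ⟶ X) (g : F.obj X ⟶ Y),
      e X' Y (F.map f ≫ g) = f ≫ e X Y g := by
    intro X' X Y f g
    apply (hε Y X').1
    change F.map ((Equiv.ofBijective _ (hε Y X')).symm (F.map f ≫ g)) ≫ ε Y =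
      F.map (f ≫ (Equiv.ofBijective _ (hε Y X)).symm g) ≫ ε Y
    have h1 := (Equiv.ofBijective _ (hε Y X')).apply_symm_apply (F.map f ≫ g)
    have h2 := (Equiv.ofBijective _ (hε Y X)).apply_symm_apply g
    simp only [Equiv.ofBijective_apply] at h1 h2
    rw [h1, Functor.map_comp, Category.assoc, h2]
  exact (Adjunction.adjunctionOfEquivRight e he).isLeftAdjoint

theorem pw_of_isLeftAdjoint (F : C ⥤ D) [F.IsLeftAdjoint] (Y : D) : PW F Y := by
  let adj := Adjunction.ofIsLeftAdjoint F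
  refine ⟨F.rightAdjoint.obj Y, adj.counit.app Y, fun X => ?_⟩
  have h : (fun g : X ⟶ F.rightAdjoint.obj Y => F.map g ≫ adj.counit.app Y) =
      (adj.homEquiv X Y).symm := by
    ext g
    rw [Adjunction.homEquiv_counit]
  rw [h]
  exact (adj.homEquiv X Y).symm.bijective

theorem isLeftAdjoint_iff (F : C ⥤ D) : F.IsLeftAdjoint ↔ ∀ Y, PW F Y :=
  ⟨fun _ Y => pw_of_isLeftAdjoint F Y, isLeftAdjoint_of_pw F⟩

theorem PW.of_iso {F : C ⥤ D} {Y Y₂ : D} (e : Y ≅ Y₂) (h : PW F Y) : PW F Y₂ := by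
  obtain ⟨Y', ε, hε⟩ := h
  refine ⟨Y', ε ≫ e.hom, fun X => ?_⟩
  have h : (fun g : X ⟶ Y' => F.map g ≫ ε ≫ e.hom) =
      (fun f : F.obj X ⟶ Y => f ≫ e.hom) ∘ (fun g : X ⟶ Y' => F.map g ≫ ε) := by
    ext g
    simp
  rw [h]
  refine Function.Bijective.comp ⟨?_, ?_⟩ (hε X)
  · intro a b hab
    exact (cancel_mono e.hom).1 hab
  · intro b
    exact ⟨b ≫ e.inv, by simp⟩

theorem PW.of_natIso {F F₂ : C ⥤ D} {Y : D} (e : F ≅ F₂) (h : PW F Y) : PW F₂ Y := by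
  obtain ⟨Y', ε, hε⟩ := h
  refine ⟨Y', e.inv.app Y' ≫ ε, fun X => ?_⟩
  have h : (fun g : X ⟶ Y' => F₂.map g ≫ e.inv.app Y' ≫ ε) =
      (fun f : F.obj X ⟶ Y => e.inv.app X ≫ f) ∘ (fun g : X ⟶ Y' => F.map g ≫ ε) := by
    ext g
    simp
  rw [h]
  refine Function.Bijective.comp ⟨?_, ?_⟩ (hε X)
  · intro a b hab
    exact (cancel_epi (e.inv.app X)).1 hab
  · intro b
    exact ⟨e.hom.app X ≫ b, by simp⟩

/-- Precomposition with an equivalence. -/
theorem PW.precomp {F : C ⥤ D} {Y : D} (h : PW F Y) (e : E ⥤ C) [e.IsEquivalence] :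
    PW (e ⋙ F) Y := by
  obtain ⟨Y', ε, hε⟩ := h
  refine ⟨e.objPreimage Y', F.map (e.objObjPreimageIso Y').hom ≫ ε, fun X => ?_⟩
  have h : (fun g : X ⟶ e.objPreimage Y' => (e ⋙ F).map g ≫ F.map (e.objObjPreimageIso Y').hom ≫ ε) =
      (fun g : e.obj X ⟶ Y' => F.map g ≫ ε) ∘
        (fun g : e.obj X ⟶ e.obj (e.objPreimage Y') => g ≫ (e.objObjPreimageIso Y').hom) ∘
          (fun g : X ⟶ e.objPreimage Y' => e.map g) := by
    ext g
    simp
  rw [h]
  refine (hε _).comp (Function.Bijective.comp ⟨?_, ?_⟩ ?_)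
  · intro a b hab
    exact (cancel_mono _).1 hab
  · intro b
    exact ⟨b ≫ (e.objObjPreimageIso Y').inv, by simp⟩
  · exact ⟨e.map_injective, e.map_surjective⟩

/-- Precomposition with a fully faithful functor whose image contains the representing object. -/
theorem PWIn.precomp {F : C ⥤ D} {Y : D} {P : C → Prop} (h : PWIn F Y P) (e : E ⥤ C) [e.Full]
    [e.Faithful] (he : ∀ X, P X → ∃ X' : E, Nonempty (e.obj X' ≅ X)) : PW (e ⋙ F) Y := by
  obtain ⟨Y', hY', ε, hε⟩ := h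
  obtain ⟨Z, ⟨i⟩⟩ := he Y' hY'
  refine ⟨Z, F.map i.hom ≫ ε, fun X => ?_⟩
  have h : (fun g : X ⟶ Z => (e ⋙ F).map g ≫ F.map i.hom ≫ ε) =
      (fun g : e.obj X ⟶ Y' => F.map g ≫ ε) ∘
        (fun g : e.obj X ⟶ e.obj Z => g ≫ i.hom) ∘ (fun g : X ⟶ Z => e.map g) := by
    ext g
    simp
  rw [h]
  refine (hε _).comp (Function.Bijective.comp ⟨?_, ?_⟩ ?_)
  · intro a b hab
    exact (cancel_mono _).1 hab
  · intro b
    exact ⟨b ≫ i.inv, by simp⟩
  · exact ⟨e.map_injective, e.map_surjective⟩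

/-- Removing an equivalence in front. -/
theorem PW.of_precomp {F : C ⥤ D} {Y : D} (e : E ⥤ C) [e.IsEquivalence] (h : PW (e ⋙ F) Y) :
    PW F Y := by
  have h2 := h.precomp e.inv
  exact h2.of_natIso ((Functor.associator _ _ _).symm ≪≫
    Functor.isoWhiskerRight e.asEquivalence.counitIso F ≪≫ Functor.leftUnitor F)

/-- Postcomposition with a functor which is bijective on morphisms to the target. -/
theorem PW.postcomp {F : C ⥤ D} {Y : D} (h : PW F Y) (P : D ⥤ E)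
    (hP : ∀ X : C, Function.Bijective (P.map : (F.obj X ⟶ Y) → _)) : PW (F ⋙ P) (P.obj Y) := by
  obtain ⟨Y', ε, hε⟩ := h
  refine ⟨Y', P.map ε, fun X => ?_⟩
  have h : (fun g : X ⟶ Y' => (F ⋙ P).map g ≫ P.map ε) =
      (P.map : (F.obj X ⟶ Y) → _) ∘ (fun g : X ⟶ Y' => F.map g ≫ ε) := by
    ext g
    simp
  rw [h]
  exact (hP X).comp (hε X)

theorem PW.of_postcomp {F : C ⥤ D} {Y : D} (P : D ⥤ E) (h : PW (F ⋙ P) (P.obj Y))
    (hP : ∀ X : C, Function.Bijective (P.map : (F.obj X ⟶ Y) → _)) : PW F Y := by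
  obtain ⟨Y', ε', hε⟩ := h
  obtain ⟨ε, rfl⟩ := (hP Y').2 ε'
  refine ⟨Y', ε, fun X => ?_⟩
  have h : (fun g : X ⟶ Y' => (F ⋙ P).map g ≫ P.map ε) =
      (P.map : (F.obj X ⟶ Y) → _) ∘ (fun g : X ⟶ Y' => F.map g ≫ ε) := by
    ext g
    simp
  have h2 := hε X
  rw [h] at h2
  exact (Function.Bijective.of_comp_iff' (hP X) _).1 h2

end Groth.Agent.Etdl.H430.UnivArrow
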