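import Groth.Agent.Etdl.H430.CoprodTR
import Groth.Agent.Etdl.H430.UnivArrow
import Groth.Agent.LoccohB.HomCls
import Groth.Agent.S0479
import Groth.Agent.S0477
import Mathlib.CategoryTheory.Localization.LocallySmall
import Mathlib.CategoryTheory.Triangulated.TStructure.TruncLTGE

/-!
# `R^+ G` is a left adjoint, for `G` left exact of finite cohomological dimension commuting with coproducts

`isLeftAdjoint_rightDerivedFunctorPlus`: `G : A ⥤ B` left exact additive functor between Grothendieck abelian categories,
`R^q G = 0` for `q > N`, all `R^q G` preserve coproducts: then `G.rightDerivedFunctorPlus : D^+(A) ⥤ D^+(B)` has a right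
adjoint (for any choices of the derived categories).
-/

set_option autoImplicit false
universe t w w' v v' u u'
open CategoryTheory CategoryTheory.Limits

noncomputable section
namespace Groth.Agent.Etdl.H430.PlusLeftAdj
open Groth.Agent.Etrest RDer1 RDer2 RDer3 AmpTR CoprodTR UnivArrow

section small

variable (A : Type u) [Category.{v} A] [Abelian A]

/-- The derived category of a Grothendieck abelian category is locally small. -/
theorem locallySmall [HasKInjInj A] [HasDerivedCategory.{w} A] : LocallySmall.{v} (DerivedCategory A) where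
  hom_small X Y := by
    obtain ⟨K, ⟨e⟩⟩ : ∃ K, Nonempty (DerivedCategory.Q.obj K ≅ X) :=
      ⟨_, ⟨DerivedCategory.Q.objObjPreimageIso X⟩⟩
    obtain ⟨I, hI, -, ⟨e'⟩⟩ := exists_kinjinj Y
    have h : Function.Surjective (fun g : K ⟶ I => e.inv ≫ DerivedCategory.Q.map g ≫ e'.inv) := by
      intro f
      obtain ⟨g, hg⟩ := LoccohB.HomCls.Q_map_surjective K I (e.hom ≫ f ≫ e'.hom)
      exact ⟨g, by simp [hg]⟩
    exact small_of_surjective h

/-- A choice of the derived category of a Grothendieck abelian category with small Hom types. -/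
@[instance_reducible]
def smallHasDerivedCategory [HasKInjInj A] : HasDerivedCategory.{v} A :=
  letI := HasDerivedCategory.standard A
  haveI := locallySmall A
  MorphismProperty.hasLocalizationOfLocallySmall.{v}
    (HomologicalComplex.quasiIso A (ComplexShape.up ℤ)) (DerivedCategory.Q (C := A))

end small

section brown

variable {A : Type u} [Category.{v} A] [Abelian A] [IsGrothendieckAbelian.{v} A] [HasDerivedCategory.{v} A]
  {D' : Type u'} [Category.{v} D'] [Preadditive D'] [HasZeroObject D'] [HasShift D' ℤ]
    [∀ n : ℤ, (shiftFunctor D' n).Additive] [Pretriangulated D']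

open Pretriangulated.Opposite in
/-- Brown's adjoint functor theorem for the derived category of a Grothendieck abelian category. -/
theorem isLeftAdjoint_of_preservesCoproducts (F : DerivedCategory A ⥤ D') [F.CommShift ℤ]
    [F.IsTriangulated] [∀ (ι : Type v), PreservesColimitsOfShape (Discrete ι) F] :
    F.IsLeftAdjoint := by
  rw [Functor.isLeftAdjoint_iff_rightAdjointObjIsDefined_eq_top]
  ext Y
  simp only [Pi.top_apply, «Prop».top_eq_true, iff_true]
  rw [Functor.rightAdjointObjIsDefined_iff]
  have h1 : ∀ (ι : Type v), PreservesLimitsOfShape (Discrete ι) F.op := fun ι => by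
    have : PreservesColimitsOfShape (Discrete ι)ᵒᵖ F :=
      preservesColimitsOfShape_of_equiv (Discrete.opposite ι).symm F
    exact preservesLimitsOfShape_op _ F
  have h2 : ∀ (ι : Type v), PreservesLimitsOfShape (Discrete ι)
      (F.op ⋙ preadditiveYoneda.obj Y) := fun ι => inferInstance
  exact Groth.Agent.S0479.result (F.op ⋙ preadditiveYoneda.obj Y)

end brown

section plus

variable {A : Type u} [Category.{v} A] [Abelian A] [EnoughInjectives A] [HasKInjInj A] [HasDerivedCategory.{w} A]
  {B : Type u'} [Category.{v'} B] [Abelian B] [HasDerivedCategory.{w'} B]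
  (G : A ⥤ B) [G.Additive] [PreservesFiniteLimits G]

/-- The representing object of a bounded below object is bounded below. -/
theorem pwIn_TR [(TR G).IsLeftAdjoint] (N : ℕ) (hN : ∀ q : ℕ, N < q → ∀ X : A, IsZero ((G.rightDerived q).obj X))
    (L : DerivedCategory B) (k : ℤ) [L.IsGE k] : PWIn (TR G) L (fun Y => Y.IsGE (k - N)) := by
  obtain ⟨Y', ε, hε⟩ := pw_of_isLeftAdjoint (TR G) L
  refine ⟨Y', ?_, ε, hε⟩
  refine (DerivedCategory.TStructure.t.isGE_iff_orthogonal (k - N - 1) (k - N) (by ring) Y').2 ?_
  intro K f hK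
  have hK' : K.IsLE (k - N - 1) := hK
  have h1 := TR_isLE G N hN K (k - N - 1)
  have h2 : ∀ g : (TR G).obj K ⟶ L, g = 0 := fun g =>
    DerivedCategory.TStructure.t.zero g (k - N - 1 + N) k (by omega)
  apply (hε K).1
  change (TR G).map f ≫ ε = (TR G).map 0 ≫ ε
  rw [h2 ((TR G).map f ≫ ε), h2 ((TR G).map 0 ≫ ε)]

/-- Pointwise right adjoint of `RG G`. -/
theorem pw_RG [(TR G).IsLeftAdjoint] (N : ℕ) (hN : ∀ q : ℕ, N < q → ∀ X : A, IsZero ((G.rightDerived q).obj X))
    (L : DerivedCategory.Plus B) : PW (RG G) L := by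
  obtain ⟨k, hk⟩ := L.property
  have hk' : (DerivedCategory.Plus.ι.obj L).IsGE k := hk
  have h1 := pwIn_TR G N hN (DerivedCategory.Plus.ι.obj L) k
  have h2 : PW (DerivedCategory.Plus.ι ⋙ TR G) (DerivedCategory.Plus.ι.obj L) :=
    h1.precomp DerivedCategory.Plus.ι (fun X hX => ⟨⟨X, ⟨_, hX⟩⟩, ⟨Iso.refl _⟩⟩)
  have h3 : PW (RG G ⋙ DerivedCategory.Plus.ι) (DerivedCategory.Plus.ι.obj L) :=
    h2.of_natIso (plusComparison G)
  exact h3.of_postcomp DerivedCategory.Plus.ι (fun X =>
    ⟨Functor.map_injective _, Functor.map_surjective _⟩)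

/-- The injective model of `RG G`. -/
abbrev Psi : HomotopyCategory.Plus (InjectiveObject A) ⥤ HomotopyCategory.Plus B :=
  (InjectiveObject.ι A).mapHomotopyCategoryPlus ⋙ G.mapHomotopyCategoryPlus

omit [HasKInjInj A] [PreservesFiniteLimits G] in
/-- Universe-independent description of the pointwise right adjoint of `RG G`. -/
theorem pw_RG_iff (L : HomotopyCategory.Plus (InjectiveObject B)) :
    PW (RG G) ((injD B).obj L) ↔ PW (Psi G) ((InjectiveObject.ι B).mapHomotopyCategoryPlus.obj L) := by
  have hbij : ∀ X : HomotopyCategory.Plus (InjectiveObject A), Function.Bijective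
      (DerivedCategory.Plus.Qh.map :
        ((Psi G).obj X ⟶ (InjectiveObject.ι B).mapHomotopyCategoryPlus.obj L) → _) := by
    intro X
    obtain ⟨L, rfl⟩ := HomotopyCategory.Plus.quotient_obj_surjective L
    exact DerivedCategory.Plus.Qh_map_bijective_of_isKInjective _ _
      (inferInstanceAs (CochainComplex.IsKInjective
        (((InjectiveObject.ι B).mapHomologicalComplex (.up ℤ)).obj L.obj)))
  constructor
  · intro h
    have h1 : PW (injD A ⋙ RG G) ((injD B).obj L) := h.precomp (injD A)
    have h2 : PW (Psi G ⋙ DerivedCategory.Plus.Qh) (DerivedCategory.Plus.Qh.obj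
        ((InjectiveObject.ι B).mapHomotopyCategoryPlus.obj L)) := h1.of_natIso (RGinj G)
    exact h2.of_postcomp DerivedCategory.Plus.Qh hbij
  · intro h
    have h2 : PW (Psi G ⋙ DerivedCategory.Plus.Qh) (DerivedCategory.Plus.Qh.obj
        ((InjectiveObject.ι B).mapHomotopyCategoryPlus.obj L)) := h.postcomp DerivedCategory.Plus.Qh hbij
    have h1 : PW (injD A ⋙ RG G) ((injD B).obj L) := h2.of_natIso (RGinj G).symm
    exact h1.of_precomp (injD A)

end plus

/-- **`R^+ G` is a left adjoint.** -/
theorem isLeftAdjoint_rightDerivedFunctorPlus {A : Type u} [Category.{v} A] [Abelian A] [IsGrothendieckAbelian.{v} A]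
    {B : Type u'} [Category.{v} B] [Abelian B] [IsGrothendieckAbelian.{v} B]
    [HasDerivedCategory.{w} A] [HasDerivedCategory.{w'} B]
    (G : A ⥤ B) [G.Additive] [PreservesFiniteLimits G]
    (N : ℕ) (hN : ∀ q : ℕ, N < q → ∀ X : A, IsZero ((G.rightDerived q).obj X))
    (hc : ∀ (q : ℕ) (J : Type v), PreservesColimitsOfShape (Discrete J) (G.rightDerived q)) :
    G.rightDerivedFunctorPlus.IsLeftAdjoint := by
  have hA := hasKInjInj_of_isGrothendieckAbelian A
  have hB := hasKInjInj_of_isGrothendieckAbelian B
  -- the small version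
  have key : ∀ L : HomotopyCategory.Plus (InjectiveObject B),
      PW (Psi G) ((InjectiveObject.ι B).mapHomotopyCategoryPlus.obj L) := by
    let _ := smallHasDerivedCategory A
    let _ := smallHasDerivedCategory B
    intro L
    have : ∀ (J : Type v), PreservesColimitsOfShape (Discrete J) (TR G) := fun J =>
      preservesCoproducts_TR G N hN (fun q => hc q J)
    have : (TR G).IsLeftAdjoint := isLeftAdjoint_of_preservesCoproducts (TR G)
    exact (pw_RG_iff G L).1 (pw_RG G N hN _)
  have h2 : (RG G).IsLeftAdjoint := by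
    apply isLeftAdjoint_of_pw
    intro L
    exact ((pw_RG_iff G _).2 (key ((injD B).objPreimage L))).of_iso ((injD B).objObjPreimageIso L)
  exact Functor.isLeftAdjoint_of_iso (RGIso G).symm

end Groth.Agent.Etdl.H430.PlusLeftAdj
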