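import Groth.Agent.Etrest.RDer3
import Groth.Agent.S0476
import Mathlib.CategoryTheory.Abelian.GrothendieckCategory.EnoughInjectives

/-!
# Amplitude of the unbounded total right derived functor

`G` left exact with `R^q G = 0` for `q > N`, on a category where every complex has a K-injective resolution with injective
terms (e.g. a Grothendieck abelian category, `S0476`): `TR G` sends `D^{≤ b}` to `D^{≤ b + N}` (no lower bound needed), and
isomorphisms in high degrees to isomorphisms in high degrees.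
-/

set_option autoImplicit false
universe w w' v v' u u'
open CategoryTheory CategoryTheory.Limits

noncomputable section
namespace Groth.Agent.Etdl.H430.AmpTR
open Groth.Agent.Etrest RDer1 RDer2 RDer3

/-- Every complex has a K-injective resolution with injective terms. -/
class HasKInjInj (A : Type u) [Category.{v} A] [Abelian A] : Prop where
  out : ∀ K : CochainComplex A ℤ, ∃ (I : CochainComplex A ℤ) (f : K ⟶ I), I.IsKInjective ∧ QuasiIso f ∧
    ∀ n, Injective (I.X n)

theorem hasKInjInj_of_isGrothendieckAbelian (A : Type u) [Category.{v} A] [Abelian A]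
    [IsGrothendieckAbelian.{v} A] : HasKInjInj A where
  out K := by
    obtain ⟨I, f, h1, h2, -, h3⟩ := Groth.Agent.S0476.result K
    exact ⟨I, f, h1, h2, h3⟩

instance (priority := 100) hasKInj (A : Type u) [Category.{v} A] [Abelian A] [HasKInjInj A] : HasKInj A where
  out K := by
    obtain ⟨I, f, h1, h2, -⟩ := HasKInjInj.out K
    exact ⟨I, f, h1, h2⟩

section cycles

variable {A : Type u} [Category.{v} A] [Abelian A] [EnoughInjectives A]
  {B : Type u'} [Category.{v'} B] [Abelian B] (G : A ⥤ B) [G.Additive] (K : CochainComplex A ℤ)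

theorem isZero_rightDerived_cycles (b : ℤ) (N : ℕ) (hN : ∀ q : ℕ, N < q → ∀ X : A, IsZero ((G.rightDerived q).obj X))
    (hK : ∀ j, b < j → K.ExactAt j) (h : ∀ i, IsAcyc G (K.X i)) (m : ℕ) :
    ∀ q : ℕ, N < q + 1 + m → IsZero ((G.rightDerived (q + 1)).obj (K.cycles (b + m))) := by
  induction m with
  | zero =>
    intro q hq
    exact hN _ (by omega) _
  | succ m ih =>
    intro q hq
    have hS := cyc_shortExact K (b + m) (b + (m + 1 : ℕ)) (by push_cast; ring) (hK _ (by push_cast; omega))
    exact isZero_X₃ G hS (q + 1) (h _ q) (ih (q + 1) (by omega))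

theorem isAcyc_cycles (b : ℤ) (N : ℕ) (hN : ∀ q : ℕ, N < q → ∀ X : A, IsZero ((G.rightDerived q).obj X))
    (hK : ∀ j, b < j → K.ExactAt j) (h : ∀ i, IsAcyc G (K.X i)) (i : ℤ) (hi : b + N ≤ i) :
    IsAcyc G (K.cycles i) := by
  obtain ⟨m, rfl⟩ := Int.le.dest hi
  intro q
  have := isZero_rightDerived_cycles G K b N hN hK h (N + m) q (by omega)
  have h2 : b + ((N + m : ℕ) : ℤ) = b + N + m := by push_cast; ring
  rw [h2] at this
  exact this

/-- Local form of `RDer2.acyclic_map`. -/
theorem exactAt_map [PreservesFiniteLimits G] (i : ℤ) (hKi : K.ExactAt i) (hKi' : K.ExactAt (i + 1))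
    (h : IsAcyc G (K.cycles (i - 1))) : ((G.mapHomologicalComplex (.up ℤ)).obj K).ExactAt i := by
  rw [HomologicalComplex.exactAt_iff' _ (i - 1) i (i + 1) (by simp) (by simp)]
  have hS := cyc_shortExact K (i - 1) i (by simp) hKi
  have hS' := cyc_shortExact K i (i + 1) rfl hKi'
  have hmono' : Mono (cyc K i (i + 1)).f := hS'.mono_f
  have hex : ((cyc K i (i + 1)).map G).Exact := hS'.exact.map_of_mono_of_preservesKernel G inferInstance inferInstance
  have hepi : Epi (G.map (K.toCycles (i - 1) i)) := epi_map G hS h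
  have hmono : Mono (G.map (K.iCycles (i + 1))) := inferInstance
  let φ : ((G.mapHomologicalComplex (.up ℤ)).obj K).sc' (i - 1) i (i + 1) ⟶ ShortComplex.mk
      (G.map (K.iCycles i)) (G.map (K.d i (i + 1))) (by rw [← G.map_comp]; simp) :=
    { τ₁ := G.map (K.toCycles (i - 1) i)
      τ₂ := 𝟙 _
      τ₃ := 𝟙 _
      comm₁₂ := by
        change G.map (K.toCycles (i - 1) i) ≫ G.map (K.iCycles i) = G.map (K.d (i - 1) i) ≫ 𝟙 _
        rw [← G.map_comp]; simp
      comm₂₃ := (Category.id_comp _).trans (Category.comp_id _).symm }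
  have e1 : Epi φ.τ₁ := hepi
  have e2 : IsIso φ.τ₂ := inferInstanceAs (IsIso (𝟙 _))
  have e3 : Mono φ.τ₃ := inferInstanceAs (Mono (𝟙 _))
  rw [ShortComplex.exact_iff_of_epi_of_isIso_of_mono φ]
  let ψ : (cyc K i (i + 1)).map G ⟶ ShortComplex.mk
      (G.map (K.iCycles i)) (G.map (K.d i (i + 1))) (by rw [← G.map_comp]; simp) :=
    { τ₁ := 𝟙 _
      τ₂ := 𝟙 _
      τ₃ := G.map (K.iCycles (i + 1))
      comm₁₂ := (Category.id_comp _).trans (Category.comp_id _).symm
      comm₂₃ := by
        change 𝟙 _ ≫ G.map (K.d i (i + 1)) = G.map (K.toCycles i (i + 1)) ≫ G.map (K.iCycles (i + 1))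
        rw [← G.map_comp]; simp }
  have e1 : Epi ψ.τ₁ := inferInstanceAs (Epi (𝟙 _))
  have e2 : IsIso ψ.τ₂ := inferInstanceAs (IsIso (𝟙 _))
  have e3 : Mono ψ.τ₃ := hmono
  exact (ShortComplex.exact_iff_of_epi_of_isIso_of_mono ψ).1 hex

end cycles

section TR

variable {A : Type u} [Category.{v} A] [Abelian A] [EnoughInjectives A] [HasKInjInj A] [HasDerivedCategory.{w} A]
  {B : Type u'} [Category.{v'} B] [Abelian B] [HasDerivedCategory.{w'} B]
  (G : A ⥤ B) [G.Additive] [PreservesFiniteLimits G]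

omit [EnoughInjectives A] in
/-- Every object is represented by a K-injective complex with injective terms. -/
theorem exists_kinjinj (K : DerivedCategory A) : ∃ (I : CochainComplex A ℤ), I.IsKInjective ∧
    (∀ n, Injective (I.X n)) ∧ Nonempty (K ≅ DerivedCategory.Q.obj I) := by
  obtain ⟨M, ⟨e⟩⟩ : ∃ M : CochainComplex A ℤ, Nonempty (DerivedCategory.Q.obj M ≅ K) :=
    ⟨_, ⟨DerivedCategory.Q.objObjPreimageIso K⟩⟩
  obtain ⟨I, f, hI, hf, hI2⟩ := HasKInjInj.out M
  exact ⟨I, hI, hI2, ⟨e.symm ≪≫ asIso (DerivedCategory.Q.map f)⟩⟩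

/-- `TR G` has cohomological amplitude at most `N`. -/
theorem TR_isLE (N : ℕ) (hN : ∀ q : ℕ, N < q → ∀ X : A, IsZero ((G.rightDerived q).obj X))
    (K : DerivedCategory A) (b : ℤ) [hK : K.IsLE b] : ((TR G).obj K).IsLE (b + N) := by
  obtain ⟨I, hI, hI2, ⟨e⟩⟩ := exists_kinjinj K
  have := isIso_unitQ_of_isKInjective G I hI
  have h0 : (DerivedCategory.Q.obj I).IsLE b := DerivedCategory.TStructure.t.isLE_of_iso e b
  have h1 : I.IsLE b := (DerivedCategory.isLE_Q_obj_iff I b).1 h0
  have hex : ∀ j, b < j → I.ExactAt j := fun j hj => I.exactAt_of_isLE b j hj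
  have h2 : CochainComplex.IsLE ((G.mapHomologicalComplex (.up ℤ)).obj I) (b + N) := by
    rw [CochainComplex.isLE_iff]
    intro i hi
    exact exactAt_map G I i (hex i (by omega)) (hex _ (by omega))
      (isAcyc_cycles G I b N hN hex (fun n => isAcyc_of_injective G (I.X n)) (i - 1) (by omega))
  have h3 : (DerivedCategory.Q.obj ((G.mapHomologicalComplex (.up ℤ)).obj I)).IsLE (b + N) := by
    infer_instance
  exact @CategoryTheory.Triangulated.TStructure.isLE_of_iso _ _ _ _ _ _ _ DerivedCategory.TStructure.t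
    _ _ (asIso ((unitQ G).app I) ≪≫ (TR G).mapIso e.symm) _ h3

open Pretriangulated DerivedCategory

/-- If `φ` is an isomorphism on `H^i` for `i ≥ a` and epi on `H^{a-1}`, then `TR G φ` is an isomorphism on `H^m` for
`m ≥ a + N`. -/
theorem isIso_homology_map_TR (N : ℕ) (hN : ∀ q : ℕ, N < q → ∀ X : A, IsZero ((G.rightDerived q).obj X))
    {K L : DerivedCategory A} (φ : K ⟶ L) (a : ℤ)
    (h1 : ∀ i, a ≤ i → IsIso ((homologyFunctor A i).map φ)) (h2 : Epi ((homologyFunctor A (a - 1)).map φ))
    (m : ℤ) (hm : a + N ≤ m) : IsIso ((homologyFunctor B m).map ((TR G).map φ)) := by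
  obtain ⟨F, ι, d, hT⟩ := distinguished_cocone_triangle₁ φ
  have hF : F.IsLE (a - 1) := by
    rw [isLE_iff]
    intro i hi
    refine (HomologySequence.exact₁ _ hT (i - 1) i (by omega)).isZero_of_both_zeros ?_ ?_
    · refine (HomologySequence.epi_homologyMap_mor₂_iff _ hT (i - 1) i (by omega)).1 ?_
      change Epi ((homologyFunctor A (i - 1)).map φ)
      by_cases h : i = a
      · subst h; exact h2
      · have := h1 (i - 1) (by omega)
        infer_instance
    · refine (HomologySequence.mono_homologyMap_mor₂_iff _ hT i).1 ?_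
      change Mono ((homologyFunctor A i).map φ)
      have := h1 i (by omega)
      infer_instance
  have hTF := TR_isLE G N hN F (a - 1)
  have hT' := (TR G).map_distinguished _ hT
  have hz : ∀ j, a + N ≤ j → IsZero ((homologyFunctor B j).obj ((TR G).obj F)) := fun j hj =>
    isZero_of_isLE _ (a - 1 + N) j (by omega)
  have e1 : Mono ((homologyFunctor B m).map ((TR G).map φ)) :=
    (HomologySequence.mono_homologyMap_mor₂_iff _ hT' m).2 ((hz m hm).eq_of_src _ _)
  have e2 : Epi ((homologyFunctor B m).map ((TR G).map φ)) :=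
    (HomologySequence.epi_homologyMap_mor₂_iff _ hT' m (m + 1) rfl).2 ((hz (m + 1) (by omega)).eq_of_tgt _ _)
  exact isIso_of_mono_of_epi _

end TR

end Groth.Agent.Etdl.H430.AmpTR
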