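import Groth.Agent.Etdl.H430.AmpTR
import Groth.Agent.PerfA.HomologyCoprod

/-!
# The unbounded total right derived functor preserves coproducts

`G` left exact of finite cohomological dimension such that all `R^q G` preserve coproducts of shape `J`, exact coproducts of
shape `J` on both sides: then `TR G : D(A) ⥤ D(B)` preserves coproducts of shape `J`.
-/

set_option autoImplicit false
universe t w w' v v' u u'
open CategoryTheory CategoryTheory.Limits

noncomputable section
namespace Groth.Agent.Etdl.H430.CoprodTR
open Groth.Agent.Etrest RDer1 RDer2 RDer3 AmpTR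
open Groth.Agent.PerfB.CoprodDerived Groth.Agent.PerfA.HomologyCoprod

section general

variable {C : Type u} [Category.{v} C] {D : Type u'} [Category.{v'} D] (H : C ⥤ D) {J : Type t}
  [HasCoproductsOfShape J C] [HasCoproductsOfShape J D]

theorem sigmaComparison_naturality {K L : J → C} (φ : ∀ j, K j ⟶ L j) :
    Limits.Sigma.map (fun j => H.map (φ j)) ≫ sigmaComparison H L =
      sigmaComparison H K ≫ H.map (Limits.Sigma.map φ) := by
  apply Sigma.hom_ext
  intro j
  rw [Limits.Sigma.ι_map_assoc, ι_comp_sigmaComparison, ι_comp_sigmaComparison_assoc, ← H.map_comp, ← H.map_comp,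
    Limits.Sigma.ι_map]

theorem isIso_map_sigmaMap [PreservesColimitsOfShape (Discrete J) H] {K L : J → C} (φ : ∀ j, K j ⟶ L j)
    (h : ∀ j, IsIso (H.map (φ j))) : IsIso (H.map (Limits.Sigma.map φ)) := by
  have h1 := sigmaComparison_naturality H φ
  have h2 : H.map (Limits.Sigma.map φ) =
      inv (sigmaComparison H K) ≫ Limits.Sigma.map (fun j => H.map (φ j)) ≫ sigmaComparison H L := by
    rw [h1, IsIso.inv_hom_id_assoc]
  rw [h2]
  infer_instance

theorem epi_map_sigmaMap [PreservesColimitsOfShape (Discrete J) H] {K L : J → C} (φ : ∀ j, K j ⟶ L j)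
    (h : ∀ j, Epi (H.map (φ j))) : Epi (H.map (Limits.Sigma.map φ)) := by
  have h1 := sigmaComparison_naturality H φ
  have h2 : H.map (Limits.Sigma.map φ) =
      inv (sigmaComparison H K) ≫ Limits.Sigma.map (fun j => H.map (φ j)) ≫ sigmaComparison H L := by
    rw [h1, IsIso.inv_hom_id_assoc]
  rw [h2]
  have : Epi (Limits.Sigma.map (fun j => H.map (φ j)) ≫ sigmaComparison H L) := inferInstance
  exact epi_comp _ _

end general

section TR

variable {A : Type u} [Category.{v} A] [Abelian A] [EnoughInjectives A] [HasKInjInj A] [HasDerivedCategory.{w} A]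
  {B : Type u'} [Category.{v'} B] [Abelian B] [HasDerivedCategory.{w'} B]
  (G : A ⥤ B) [G.Additive] [PreservesFiniteLimits G]
  {J : Type t} [HasCoproductsOfShape J A] [HasExactColimitsOfShape (Discrete J) A]
  [HasCoproductsOfShape J B] [HasExactColimitsOfShape (Discrete J) B]

omit [EnoughInjectives A] [HasKInjInj A] [HasDerivedCategory.{w} A] [HasDerivedCategory.{w'} B]
  [PreservesFiniteLimits G] [HasExactColimitsOfShape (Discrete J) A] [HasExactColimitsOfShape (Discrete J) B]
  [HasCoproductsOfShape J B] in
theorem preserves_mapHomologicalComplex [PreservesColimitsOfShape (Discrete J) G] :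
    PreservesColimitsOfShape (Discrete J) (G.mapHomologicalComplex (ComplexShape.up ℤ)) := by
  refine HomologicalComplex.preservesColimitsOfShape_of_eval _ (fun i => ?_)
  exact inferInstanceAs (PreservesColimitsOfShape (Discrete J)
    (HomologicalComplex.eval A (ComplexShape.up ℤ) i ⋙ G))

omit [HasKInjInj A] [HasDerivedCategory.{w} A] [HasDerivedCategory.{w'} B] [PreservesFiniteLimits G]
  [HasExactColimitsOfShape (Discrete J) A] [HasExactColimitsOfShape (Discrete J) B] in
theorem isAcyc_sigma (hc : ∀ q : ℕ, PreservesColimitsOfShape (Discrete J) (G.rightDerived q))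
    (X : J → A) (hX : ∀ j, IsAcyc G (X j)) : IsAcyc G (∐ X) := by
  intro q
  have := hc (q + 1)
  refine IsZero.of_iso ?_ (asIso (sigmaComparison (G.rightDerived (q + 1)) X)).symm
  rw [IsZero.iff_id_eq_zero]
  apply Sigma.hom_ext
  intro j
  exact (hX j q).eq_of_src _ _

/-- `TR G` commutes with coproducts of uniformly bounded below complexes of injectives. -/
theorem preservesColimit_of_isStrictlyGE
    (hc : ∀ q : ℕ, PreservesColimitsOfShape (Discrete J) (G.rightDerived q))
    (I : J → CochainComplex A ℤ) (a : ℤ) (hI : ∀ j, (I j).IsStrictlyGE a)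
    (hI2 : ∀ j n, IsAcyc G ((I j).X n)) :
    PreservesColimit (Discrete.functor fun j => DerivedCategory.Q.obj (I j)) (TR G) := by
  have hc0 : PreservesColimitsOfShape (Discrete J) G := by
    have := hc 0
    exact preservesColimitsOfShape_of_natIso G.rightDerivedZeroIsoSelf
  have hG := preserves_mapHomologicalComplex (J := J) G
  -- the coproduct
  have hev : ∀ n : ℤ, Nonempty ((∐ I).X n ≅ ∐ fun j => (I j).X n) := fun n =>
    ⟨(asIso (sigmaComparison (HomologicalComplex.eval A (ComplexShape.up ℤ) n) I)).symm⟩
  have hT : ∀ n, IsAcyc G ((∐ I).X n) := by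
    intro n
    obtain ⟨e⟩ := hev n
    intro q
    exact (isAcyc_sigma G hc _ (fun j => hI2 j n) q).of_iso ((G.rightDerived (q + 1)).mapIso e)
  have hT2 : (∐ I).IsStrictlyGE a := by
    rw [CochainComplex.isStrictlyGE_iff]
    intro i hi
    obtain ⟨e⟩ := hev i
    refine IsZero.of_iso ?_ e
    rw [IsZero.iff_id_eq_zero]
    apply Sigma.hom_ext
    intro j
    exact ((I j).isZero_of_isStrictlyGE a i hi).eq_of_src _ _
  have u1 : IsIso ((unitQ G).app (∐ I)) := isIso_unitQ_of_isAcyc G (∐ I) a hT
  have u2 : ∀ j, IsIso ((unitQ G).app (I j)) := fun j => by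
    have := hI j
    exact isIso_unitQ_of_isAcyc G (I j) a (hI2 j)
  refine preservesColimit_of_preserves_colimit_cocone (isColimitQCofan I) ?_
  -- colimit property of the cofan `Q(G(I j)) → Q(G(∐ I))`
  have h1 : IsColimit ((G.mapHomologicalComplex (ComplexShape.up ℤ)).mapCocone
      (Cofan.mk (∐ I) (Sigma.ι I))) := isColimitOfPreserves _ (coproductIsCoproduct I)
  let GI : J → CochainComplex B ℤ := fun j => (G.mapHomologicalComplex (ComplexShape.up ℤ)).obj (I j)
  have hQ : PreservesColimit (Discrete.functor GI) DerivedCategory.Q :=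
    preservesColimit_of_preserves_colimit_cocone (coproductIsCoproduct GI)
      ((isColimitMapCoconeCofanMkEquiv DerivedCategory.Q GI (Sigma.ι GI)).symm (isColimitQCofan GI))
  have h3 : IsColimit (Cofan.mk (f := GI) ((G.mapHomologicalComplex (ComplexShape.up ℤ)).obj (∐ I))
      (fun j => (G.mapHomologicalComplex (ComplexShape.up ℤ)).map (Sigma.ι I j))) :=
    isColimitMapCoconeCofanMkEquiv (G.mapHomologicalComplex (ComplexShape.up ℤ)) I (Sigma.ι I) h1
  have h2 : IsColimit (Cofan.mk (f := fun j => DerivedCategory.Q.obj (GI j))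
      (DerivedCategory.Q.obj ((G.mapHomologicalComplex (ComplexShape.up ℤ)).obj (∐ I)))
      (fun j => DerivedCategory.Q.map ((G.mapHomologicalComplex (ComplexShape.up ℤ)).map (Sigma.ι I j)))) :=
    isColimitMapCoconeCofanMkEquiv DerivedCategory.Q GI _ (isColimitOfPreserves DerivedCategory.Q h3)
  refine (IsColimit.equivOfNatIsoOfIso (Discrete.natIso fun j => asIso ((unitQ G).app (I j.as))) _ _ ?_) h2
  refine Cocone.ext (asIso ((unitQ G).app (∐ I))) (fun j => ?_)
  have h5 := (unitQ G).naturality (Sigma.ι I j.as)
  change (inv ((unitQ G).app (I j.as)) ≫ DerivedCategory.Q.map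
    ((G.mapHomologicalComplex (ComplexShape.up ℤ)).map (Sigma.ι I j.as))) ≫ (unitQ G).app (∐ I) =
    (TR G).map (DerivedCategory.Q.map (Sigma.ι I j.as))
  rw [Category.assoc, IsIso.inv_comp_eq]
  exact h5

omit [HasKInjInj A] [HasCoproductsOfShape J A] [HasExactColimitsOfShape (Discrete J) A] in
/-- Truncation from below, represented by a complex of injectives. -/
theorem exists_trunc (K : DerivedCategory A) (a : ℤ) : ∃ (I : CochainComplex A ℤ) (φ : K ⟶ DerivedCategory.Q.obj I),
    I.IsStrictlyGE a ∧ (∀ n, Injective (I.X n)) ∧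
    (∀ i, a ≤ i → IsIso ((DerivedCategory.homologyFunctor A i).map φ)) ∧
    Epi ((DerivedCategory.homologyFunctor A (a - 1)).map φ) := by
  let M := DerivedCategory.Q.objPreimage K
  let e : DerivedCategory.Q.obj M ≅ K := DerivedCategory.Q.objObjPreimageIso K
  obtain ⟨I, hI, -, hI2, ⟨e'⟩⟩ := exists_inj_iso (DerivedCategory.Q.obj (M.truncGE a)) a
  refine ⟨I, e.inv ≫ DerivedCategory.Q.map (M.πTruncGE a) ≫ e'.hom, hI, hI2, fun i hi => ?_, ?_⟩
  · have h1 : IsIso ((DerivedCategory.homologyFunctor A i).map (DerivedCategory.Q.map (M.πTruncGE a))) := by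
      rw [← Functor.comp_map, NatIso.isIso_map_iff (DerivedCategory.homologyFunctorFactors A i)]
      have := CochainComplex.quasiIsoAt_πTruncGE M a i hi
      exact (quasiIsoAt_iff_isIso_homologyMap (M.πTruncGE a) i).1 this
    rw [Functor.map_comp, Functor.map_comp]
    infer_instance
  · have h0 : (DerivedCategory.Q.obj I).IsGE a :=
      DerivedCategory.TStructure.t.isGE_of_iso e' a
    have h1 : IsZero ((DerivedCategory.homologyFunctor A (a - 1)).obj (DerivedCategory.Q.obj I)) :=
      DerivedCategory.isZero_of_isGE (DerivedCategory.Q.obj I) a (a - 1) (by omega)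
    exact ⟨fun _ _ _ => h1.eq_of_src _ _⟩

/-- The unbounded total right derived functor preserves coproducts. -/
theorem preservesCoproducts_TR (N : ℕ) (hN : ∀ q : ℕ, N < q → ∀ X : A, IsZero ((G.rightDerived q).obj X))
    (hc : ∀ q : ℕ, PreservesColimitsOfShape (Discrete J) (G.rightDerived q)) :
    PreservesColimitsOfShape (Discrete J) (TR G) := by
  suffices h : ∀ K : J → DerivedCategory A, IsIso (sigmaComparison (TR G) K) from
    have h' : ∀ K : J → DerivedCategory A, PreservesColimit (Discrete.functor K) (TR G) := fun K => by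
      have := h K
      exact PreservesCoproduct.of_iso_comparison (TR G) K
    preservesColimitsOfShape_of_discrete _
  intro K
  rw [DerivedCategory.isIso_iff]
  intro m
  choose I φ hI hI2 h1 h2 using fun j => exists_trunc (K j) (m - N)
  have hP := preservesColimit_of_isStrictlyGE G hc I (m - N) hI (fun j n => isAcyc_of_injective G ((I j).X n))
  have hsig : IsIso (sigmaComparison (TR G) fun j => DerivedCategory.Q.obj (I j)) := inferInstance
  have hnat := sigmaComparison_naturality (TR G) φ
  have g1 : IsIso ((DerivedCategory.homologyFunctor B m).map (Limits.Sigma.map fun j => (TR G).map (φ j))) :=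
    isIso_map_sigmaMap _ _ (fun j => isIso_homology_map_TR G N hN (φ j) (m - N) (h1 j) (h2 j) m (by omega))
  have g2 : IsIso ((DerivedCategory.homologyFunctor B m).map ((TR G).map (Limits.Sigma.map φ))) :=
    isIso_homology_map_TR G N hN (Limits.Sigma.map φ) (m - N)
      (fun i hi => isIso_map_sigmaMap _ _ (fun j => h1 j i hi)) (epi_map_sigmaMap _ _ h2) m (by omega)
  have g3 := congrArg (DerivedCategory.homologyFunctor B m).map hnat
  rw [Functor.map_comp, Functor.map_comp] at g3
  have g4 : IsIso ((DerivedCategory.homologyFunctor B m).map (sigmaComparison (TR G) K) ≫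
      (DerivedCategory.homologyFunctor B m).map ((TR G).map (Limits.Sigma.map φ))) := by
    rw [← g3]
    infer_instance
  exact IsIso.of_isIso_comp_right _ ((DerivedCategory.homologyFunctor B m).map ((TR G).map (Limits.Sigma.map φ)))

end TR

end Groth.Agent.Etdl.H430.CoprodTR
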